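import Groth.Agent.Lib.AlgSpGor6.Ring
import Groth.Agent.Lib.GorenMor.Local
import Groth.Agent.Lib.AlgSpThick.FlatAt
import Groth.Agent.Lib.AlgSpDecent.CodimOneSp
import Groth.Agent.Lib.AlgSpace.Diag
import Mathlib.AlgebraicGeometry.Morphisms.FlatMono

/-!
Gorenstein at a point of a morphism of algebraic spaces: independence of the chart.
-/

set_option autoImplicit false
set_option linter.style.haveILetI false

universe u

open CategoryTheory CategoryTheory.Limits AlgebraicGeometry

namespace Groth.Agent.Lib.AlgSpGor6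

open AlgSp (Sp yon Representable RepWith IsLocNoethSp Points FieldPt)
open Groth.Agent.Lib.AlgSpace

variable {S : Scheme.{u}} {X Y : Sp S} {f : X ⟶ Y}

/-- The fibres of a chart of a morphism with locally Noetherian fibres are locally Noetherian. -/
theorem isLocallyNoetherian_chart_fiber (hY : Representable (Limits.diag Y))
    (hf : ∀ (k : FieldPt Y) (Xk : Sp S) (a : Xk ⟶ X) (b : Xk ⟶ (yon S).obj k.pt),
      IsPullback a b f k.toHom → IsLocNoethSp Xk)
    {U V : Over S} {a : (yon S).obj U ⟶ X} {b : (yon S).obj V ⟶ Y} {h : U ⟶ V}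
    (ha : RepWith @Etale a) (hb : RepWith @Etale b) (w : a ≫ f = (yon S).map h ≫ b) (v : ↥V.left) :
    IsLocallyNoetherian (h.left.fiber v) := by
  let T : Over S := Over.mk (V.left.fromSpecResidueField v ≫ V.hom)
  let tb : T ⟶ V := Over.homMk (V.left.fromSpecResidueField v) rfl
  let g : (yon S).obj T ⟶ Y := (yon S).map tb ≫ b
  let k : FieldPt Y := ⟨V.left.residueField v, T.hom, secEquiv T g⟩
  have hk : k.toHom = g := (secEquiv T).symm_apply_apply g
  have sqP : IsPullback (pullback.fst f g) (pullback.snd f g) f g := IsPullback.of_hasPullback f g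
  have hN : IsLocNoethSp (pullback f g) :=
    hf k _ (pullback.fst f g) (pullback.snd f g) (hk.symm ▸ sqP)
  -- the chart of the fibre
  obtain ⟨Q, p₁, p₂, sqQ⟩ := exists_isPullback_yon hY (a ≫ f) g
  let c : (yon S).obj Q ⟶ pullback f g :=
    sqP.lift ((yon S).map p₁ ≫ a) ((yon S).map p₂) (by rw [Category.assoc]; exact sqQ.w)
  have sqc : IsPullback ((yon S).map p₁) c a (pullback.fst f g) :=
    IsPullback.of_bot (by rw [sqP.lift_snd]; exact sqQ) (sqP.lift_fst _ _ _).symm sqP
  have hc : RepWith @Etale c := repWith_baseChange sqc ha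
  haveI : IsLocallyNoetherian Q.left := AlgSpDecent.CodimOneSp.isLocallyNoetherian_chart hN hc
  -- the section
  obtain ⟨W, r, r', sqW⟩ := exists_isPullback_yon hY b g
  haveI : Etale r'.left := repWith_property hb sqW
  obtain ⟨σ, hσ⟩ := (yon S).map_surjective (sqW.lift ((yon S).map tb) (𝟙 _)
    (by rw [Category.id_comp]))
  have hσ1 : σ ≫ r = tb := (yon S).map_injective (by rw [Functor.map_comp, hσ, sqW.lift_fst])
  have hσ2 : σ ≫ r' = 𝟙 T :=
    (yon S).map_injective (by rw [Functor.map_comp, hσ, sqW.lift_snd, CategoryTheory.Functor.map_id])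
  have hσl : σ.left ≫ r'.left = 𝟙 _ := congrArg CommaMorphism.left hσ2
  haveI : IsSplitMono σ.left := ⟨⟨r'.left, hσl⟩⟩
  haveI : Etale σ.left := by
    haveI : Etale (σ.left ≫ r'.left) := by rw [hσl]; infer_instance
    exact Etale.of_comp σ.left r'.left
  haveI : IsOpenImmersion σ.left := IsOpenImmersion.of_flat_of_mono σ.left
  -- the fibre is open in the chart
  obtain ⟨m, hm⟩ := (yon S).map_surjective (sqW.lift ((yon S).map (p₁ ≫ h)) ((yon S).map p₂)
    (by rw [Functor.map_comp, Category.assoc, ← w]; exact sqQ.w))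
  have hm1 : m ≫ r = p₁ ≫ h := (yon S).map_injective (by rw [Functor.map_comp, hm, sqW.lift_fst])
  have hm2 : m ≫ r' = p₂ := (yon S).map_injective (by rw [Functor.map_comp, hm, sqW.lift_snd])
  have sqR : IsPullback p₁ m h r := by
    refine IsPullback.of_map (yon S) hm1.symm ?_
    refine IsPullback.of_bot ?_ (by rw [← Functor.map_comp, ← Functor.map_comp, hm1]) sqW
    rw [← Functor.map_comp, hm2, ← w]
    exact sqQ
  have sqF := IsPullback.of_hasPullback h tb
  let φ : pullback h tb ⟶ Q := sqR.lift (pullback.fst h tb) (pullback.snd h tb ≫ σ)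
    (by rw [Category.assoc, hσ1, pullback.condition])
  have sqL : IsPullback φ (pullback.snd h tb) m σ :=
    IsPullback.of_right (by rw [sqR.lift_fst, hσ1]; exact sqF) (sqR.lift_snd _ _ _) sqR
  haveI : IsOpenImmersion φ.left :=
    MorphismProperty.of_isPullback (P := @IsOpenImmersion) ((sqL.map (Over.forget S)).flip) ‹_›
  haveI : IsLocallyNoetherian (pullback h tb).left := isLocallyNoetherian_of_isOpenImmersion φ.left
  exact isLocallyNoetherian_of_isOpenImmersion
    (show h.left.fiber v ⟶ (pullback h tb).left from (sqF.map (Over.forget S)).isoPullback.inv)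

/-- Gorenstein at a point of a chart transfers to any other chart over the same point. -/
theorem isGorensteinAt_of_chart (hX : Representable (Limits.diag X)) (hY : Representable (Limits.diag Y))
    (hf : ∀ (k : FieldPt Y) (Xk : Sp S) (a : Xk ⟶ X) (b : Xk ⟶ (yon S).obj k.pt),
      IsPullback a b f k.toHom → IsLocNoethSp Xk)
    {U V : Over S} {a : (yon S).obj U ⟶ X} {b : (yon S).obj V ⟶ Y} {h : U ⟶ V}
    (ha : RepWith @Etale a) (hb : RepWith @Etale b) (w : a ≫ f = (yon S).map h ≫ b) (u : ↥U.left)
    (hu : Dual3.IsGorensteinAt h.left u) :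
    AlgSp.LocPAt (fun h u => Dual3.IsGorensteinAt h u) f (Points.ofPt a u) := by
  intro U' V' a' b' h' u' ha' hb' w' he
  obtain ⟨U'', p, q, sq⟩ := exists_isPullback_yon hX a a'
  obtain ⟨W, r, r', sqW⟩ := exists_isPullback_yon hY b b'
  have : Etale p.left := repWith_property ha' sq.flip
  have : Etale q.left := repWith_property ha sq
  have : Etale r.left := repWith_property hb' sqW.flip
  have : Etale r'.left := repWith_property hb sqW
  obtain ⟨k, hk⟩ := (yon S).map_surjective (sqW.lift ((yon S).map (p ≫ h)) ((yon S).map (q ≫ h'))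
    (by rw [Functor.map_comp, Functor.map_comp, Category.assoc, Category.assoc, ← w, ← w',
      reassoc_of% sq.w]))
  have k1 : k ≫ r = p ≫ h := (yon S).map_injective (by rw [Functor.map_comp, hk, sqW.lift_fst])
  have k2 : k ≫ r' = q ≫ h' := (yon S).map_injective (by rw [Functor.map_comp, hk, sqW.lift_snd])
  obtain ⟨z, rfl, rfl⟩ := (ofPt_eq_ofPt_iff_of_isPullback sq u u').1 he.symm
  haveI : MorphismProperty.IsStableUnderComposition (@Etale : MorphismProperty Scheme.{u}) :=
    ⟨fun f g (_ : Etale f) (_ : Etale g) ↦ inferInstanceAs (Etale (f ≫ g))⟩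
  have ha₁ : RepWith @Etale ((yon S).map p ≫ a) :=
    repWith_comp ((AlgSp.repWith_yon_map_iff _ _).2 ‹_›) ha
  have hN1 : IsLocallyNoetherian ((p.left ≫ h.left).fiber (h.left (p.left z))) :=
    isLocallyNoetherian_chart_fiber hY hf (h := p ≫ h) ha₁ hb
      (by rw [Category.assoc, w, Functor.map_comp, Category.assoc]) _
  have ha₂ : RepWith @Etale ((yon S).map q ≫ a') :=
    repWith_comp ((AlgSp.repWith_yon_map_iff _ _).2 ‹_›) ha'
  have hN2 : IsLocallyNoetherian ((q.left ≫ h'.left).fiber (h'.left (q.left z))) :=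
    isLocallyNoetherian_chart_fiber hY hf (h := q ≫ h') ha₂ hb'
      (by rw [Category.assoc, w', Functor.map_comp, Category.assoc]) _
  have k1' : k.left ≫ r.left = p.left ≫ h.left := congrArg CommaMorphism.left k1
  have k2' : k.left ≫ r'.left = q.left ≫ h'.left := congrArg CommaMorphism.left k2
  have h1 : Dual3.IsGorensteinAt (p.left ≫ h.left) z :=
    GorenMor.Comp.isGorensteinAt_comp p.left h.left z hN1 (GorenMor.Local.isGorensteinAt_of_smooth p.left z) hu
  rw [← k1'] at h1
  have h2 := (GorenMor.Comp.isGorensteinAt_of_comp k.left r.left z h1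
    (AlgSpThick.FlatAt.flat_stalkMap_cancel _ _ z h1.1)).1
  have h3 : Dual3.IsGorensteinAt (q.left ≫ h'.left) z := by
    have e : (q.left ≫ h'.left) z = (k.left ≫ r'.left) z := by rw [k2']
    have hN3 : IsLocallyNoetherian ((k.left ≫ r'.left).fiber (r'.left (k.left z))) := by
      have e' : r'.left (k.left z) = h'.left (q.left z) := e.symm
      rw [e']
      simpa only [k2'] using hN2
    have := GorenMor.Comp.isGorensteinAt_comp k.left r'.left z hN3 h2
      (GorenMor.Local.isGorensteinAt_of_smooth r'.left _)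
    rwa [k2'] at this
  exact (GorenMor.Comp.isGorensteinAt_of_comp q.left h'.left z h3 (Flat.stalkMap q.left z)).2

end Groth.Agent.Lib.AlgSpGor6
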