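import Groth.Agent.Lib.GorenMor.Comp
import Groth.Agent.Lib.Henselian.Permanence
import Groth.Agent.Lib.Henselian.IndEtale
import Groth.Agent.Lib.IndEtale.Basic
import Groth.Agent.Lib.Unram.SmoothBranches
import Groth.Agent.H56.AbsFlat
import Groth.Agent.Lib.SourceDescent.Ring

/-!
The closed fibre of a local homomorphism and of the induced map of strict henselizations.
-/

set_option autoImplicit false
set_option linter.style.haveILetI false

universe u

open IsLocalRing LocCoh

namespace Groth.Agent.Lib.AlgSpGor6

section Quotient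

variable (B S : Type u) [CommRing B] [IsLocalRing B] [CommRing S] [IsLocalRing S] [Algebra B S]
  [IsLocalHom (algebraMap B S)] [Hensel.IsStrictHenselization B S] (J : Ideal B) (hJ : J ≤ maximalIdeal B)

include hJ in
/-- Strict henselization commutes with quotients; in particular Noetherianity of quotients ascends. -/
theorem isNoetherianRing_quotient (hN : IsNoetherianRing (B ⧸ J)) :
    IsNoetherianRing (S ⧸ J.map (algebraMap B S)) := by
  have hJS : J.map (algebraMap B S) ≤ maximalIdeal S :=
    (Ideal.map_mono hJ).trans (map_maximalIdeal_le (algebraMap B S))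
  haveI : Nontrivial (B ⧸ J) := Ideal.Quotient.nontrivial_iff.2
    fun h => (maximalIdeal.isMaximal B).ne_top (top_le_iff.1 (h ▸ hJ))
  haveI : Nontrivial (S ⧸ J.map (algebraMap B S)) := Ideal.Quotient.nontrivial_iff.2
    fun h => (maximalIdeal.isMaximal S).ne_top (top_le_iff.1 (h ▸ hJS))
  haveI : IsLocalRing (B ⧸ J) := IsLocalRing.of_surjective' _ Ideal.Quotient.mk_surjective
  haveI : IsLocalRing (S ⧸ J.map (algebraMap B S)) := IsLocalRing.of_surjective' _ Ideal.Quotient.mk_surjective
  let f : B ⧸ J →+* S ⧸ J.map (algebraMap B S) :=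
    Ideal.quotientMap _ (algebraMap B S) Ideal.le_comap_map
  letI : Algebra (B ⧸ J) (S ⧸ J.map (algebraMap B S)) := f.toAlgebra
  have hf : f.comp (Ideal.Quotient.mk J) = (Ideal.Quotient.mk _).comp (algebraMap B S) :=
    Ideal.quotientMap_comp_mk _
  haveI : IsLocalHom (Ideal.Quotient.mk J) := IsLocalHom.of_surjective _ Ideal.Quotient.mk_surjective
  haveI : IsLocalHom (Ideal.Quotient.mk (J.map (algebraMap B S))) :=
    IsLocalHom.of_surjective _ Ideal.Quotient.mk_surjective
  haveI : IsLocalHom (algebraMap (B ⧸ J) (S ⧸ J.map (algebraMap B S))) := ⟨fun b hb => by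
    obtain ⟨b, rfl⟩ := Ideal.Quotient.mk_surjective b
    have h1 : IsUnit ((Ideal.Quotient.mk (J.map (algebraMap B S))) (algebraMap B S b)) := by
      rw [← RingHom.comp_apply, ← hf]; exact hb
    exact (IsUnit.of_map (algebraMap B S) b (IsUnit.of_map (Ideal.Quotient.mk _) _ h1)).map _⟩
  have hSH := (inferInstance : Hensel.IsStrictHenselization B S)
  haveI : HenselianLocalRing S := hSH.henselian
  let eB : ResidueField B ≃+* ResidueField (B ⧸ J) :=
    RingEquiv.ofBijective (ResidueField.map (Ideal.Quotient.mk J))
      ⟨(ResidueField.map _).injective, fun y => by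
        obtain ⟨y, rfl⟩ := residue_surjective y
        obtain ⟨y, rfl⟩ := Ideal.Quotient.mk_surjective y
        exact ⟨residue _ y, rfl⟩⟩
  let eS : ResidueField S ≃+* ResidueField (S ⧸ J.map (algebraMap B S)) :=
    RingEquiv.ofBijective (ResidueField.map (Ideal.Quotient.mk _))
      ⟨(ResidueField.map _).injective, fun y => by
        obtain ⟨y, rfl⟩ := residue_surjective y
        obtain ⟨y, rfl⟩ := Ideal.Quotient.mk_surjective y
        exact ⟨residue _ y, rfl⟩⟩
  have hsq : ∀ z, eS (algebraMap (ResidueField B) (ResidueField S) z) =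
      algebraMap (ResidueField (B ⧸ J)) (ResidueField (S ⧸ J.map (algebraMap B S))) (eB z) := fun z => by
    obtain ⟨z, rfl⟩ := residue_surjective z
    exact congrArg (residue _) (RingHom.congr_fun hf z).symm
  haveI : IsSepClosure (ResidueField B) (ResidueField S) := hSH.isSepClosure
  haveI : Hensel.IsStrictHenselization (B ⧸ J) (S ⧸ J.map (algebraMap B S)) :=
    { henselian := Lib.Unram.SmoothBranches.henselianLocalRing_quotient S _
      isSepClosure := by
        haveI : IsSepClosed (ResidueField S) := IsSepClosure.sep_closed (ResidueField B)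
        exact ⟨Henselian.StrictHenselization.isSepClosed_of_ringEquiv eS,
          Algebra.IsSeparable.of_equiv_equiv eB eS (RingHom.ext fun z => (hsq z).symm)⟩
      universal := fun T _ _ g _ τ hτ => by
        haveI : IsLocalHom (g.comp (Ideal.Quotient.mk J)) := RingHom.isLocalHom_comp g _
        obtain ⟨G, ⟨hG, hGτ⟩, huni⟩ := hSH.universal T (g.comp (Ideal.Quotient.mk J))
          (τ.comp eS.toRingHom) (RingHom.ext fun z => by
            obtain ⟨z, rfl⟩ := residue_surjective z
            refine (congrArg τ (hsq (residue B z))).trans ?_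
            exact RingHom.congr_fun hτ (residue _ (Ideal.Quotient.mk J z)))
        have hker : ∀ a ∈ J.map (algebraMap B S), G a = 0 := by
          intro a ha
          have : J.map (algebraMap B S) ≤ RingHom.ker G := Ideal.map_le_iff_le_comap.2 fun b hb => by
            show G (algebraMap B S b) = 0
            rw [← RingHom.comp_apply, hG, RingHom.comp_apply, Ideal.Quotient.eq_zero_iff_mem.2 hb, map_zero]
          exact this ha
        refine ⟨Ideal.Quotient.lift _ G hker, ⟨?_, ?_⟩, fun H hH => ?_⟩
        · apply Ideal.Quotient.ringHom_ext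
          ext b
          exact RingHom.congr_fun hG b
        · intro x
          obtain ⟨x, rfl⟩ := Ideal.Quotient.mk_surjective x
          exact hGτ x
        · apply Ideal.Quotient.ringHom_ext
          rw [show (Ideal.Quotient.lift (J.map (algebraMap B S)) G hker).comp (Ideal.Quotient.mk _) = G from
            RingHom.ext fun _ => rfl]
          refine huni _ ⟨?_, fun x => ?_⟩
          · rw [RingHom.comp_assoc, ← hf, ← RingHom.comp_assoc]
            exact congrArg (fun φ => φ.comp (Ideal.Quotient.mk J)) hH.1
          · exact hH.2 (Ideal.Quotient.mk _ x) }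
  haveI := hN
  exact Henselian.Permanence.strict_isNoetherianRing (B ⧸ J) (S ⧸ J.map (algebraMap B S))

end Quotient

variable (A B A' B' : Type u) [CommRing A] [CommRing B] [CommRing A'] [CommRing B']
  [IsLocalRing A] [IsLocalRing B] [IsLocalRing A'] [IsLocalRing B']
  [Algebra A A'] [IsLocalHom (algebraMap A A')] [Hensel.IsStrictHenselization A A']
  [Algebra B B'] [IsLocalHom (algebraMap B B')] [Hensel.IsStrictHenselization B B']

/-- Flat with Gorenstein closed fibre: the same before and after strict henselization. -/
theorem flat_gorenstein_iff (ψ : A →+* B) [IsLocalHom ψ] (φ : A' →+* B')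
    (hcomm : φ.comp (algebraMap A A') = (algebraMap B B').comp ψ)
    (hN : IsNoetherianRing (B ⧸ (maximalIdeal A).map ψ)) :
    (ψ.Flat ∧ IsGorensteinLocalRing (B ⧸ (maximalIdeal A).map ψ)) ↔
      (φ.Flat ∧ IsGorensteinLocalRing (B' ⧸ (maximalIdeal A').map φ)) := by
  letI := ψ.toAlgebra
  letI := φ.toAlgebra
  letI : Algebra A B' := ((algebraMap B B').comp ψ).toAlgebra
  haveI : IsScalarTower A B B' := .of_algebraMap_eq' rfl
  haveI : IsScalarTower A A' B' := .of_algebraMap_eq' hcomm.symm
  haveI : IsLocalHom (algebraMap A B) := ‹IsLocalHom ψ›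
  haveI : Module.FaithfullyFlat B B' := Henselian.StrictHenselization.faithfullyFlat B B'
  have hmA : (maximalIdeal A).map (algebraMap A A') = maximalIdeal A' := by
    let e := Henselian.StrictHenselization.equivOfIsStrictHenselization A A'
    have h := Henselian.StrictHenselization.map_maximalIdeal_self A
    rw [← e.toAlgHom.comp_algebraMap, ← Ideal.map_map, h]
    exact IsLocalRing.map_maximalIdeal_of_surjective e.toAlgHom.toRingHom e.surjective
  have hmB : (maximalIdeal B).map (algebraMap B B') = maximalIdeal B' := by
    let e := Henselian.StrictHenselization.equivOfIsStrictHenselization B B'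
    have h := Henselian.StrictHenselization.map_maximalIdeal_self B
    rw [← e.toAlgHom.comp_algebraMap, ← Ideal.map_map, h]
    exact IsLocalRing.map_maximalIdeal_of_surjective e.toAlgHom.toRingHom e.surjective
  haveI : Algebra.WeaklyEtale A A' := IndEtale.Basic.weaklyEtale
    (IndEtale.Basic.of_algEquiv Henselian.IndEtale.isIndEtale_lim
      (Henselian.StrictHenselization.equivOfIsStrictHenselization A A'))
  have heq : (maximalIdeal A').map φ = (maximalIdeal A).map (algebraMap A B') := by
    rw [← hmA, Ideal.map_map, hcomm]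
    rfl
  have hN' : IsNoetherianRing (B' ⧸ (maximalIdeal A).map (algebraMap A B')) := by
    have h := isNoetherianRing_quotient B B' ((maximalIdeal A).map ψ) (map_maximalIdeal_le ψ) hN
    rw [Ideal.map_map] at h
    exact h
  haveI := hN'
  have key := GorenMor.Comp.gor_fibre_iff A B B'
  have hfield : IsGorensteinLocalRing (B' ⧸ (maximalIdeal B).map (algebraMap B B')) := by
    rw [hmB]
    haveI : IsField (B' ⧸ maximalIdeal B') :=
      (Ideal.Quotient.maximal_ideal_iff_isField_quotient _).1 inferInstance
    exact Goren.Flat.isGorensteinLocalRing_ringEquiv_iff (RingEquiv.refl _) |>.1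
      (Goren.Basic.isGorensteinLocalRing_of_isRegular (ResidueField B'))
  refine and_congr ?_ ?_
  · refine ⟨fun h => ?_, fun h => ?_⟩
    · haveI : Module.Flat A B := h
      haveI : Module.Flat A B' := Module.Flat.trans A B B'
      exact H56.AbsFlat.flat_of_weaklyEtale (A := A) (B := A') B'
    · haveI : Module.Flat A' B' := h
      haveI : Module.FaithfullyFlat A A' := Henselian.StrictHenselization.faithfullyFlat A A'
      haveI : Module.Flat A B' := Module.Flat.trans A A' B'
      exact Lib.SourceDescent.Ring.flat_of_comp A B B'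
  · rw [heq]
    exact ⟨fun h => key.2 ⟨h, hfield⟩, fun h => (key.1 h).1⟩

end Groth.Agent.Lib.AlgSpGor6
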